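import Cfsg.Agent.H8.Mon.Bound

/-!
# S4173 / S2464, row M: the centralizers of odd order, interface (helper849)

`Boxes` : the five boxes of `m4` (`H849/TM/Main.lean`).  `K = 1240000000`.
-/

set_option autoImplicit false

namespace Cfsg.Agent.H849.TM

open Cfsg Cfsg.Agent.BpSpor.MBigModel
open Cfsg.Agent.MonsterX.MainPack Cfsg.Agent.MonsterU.Lam2 Cfsg.Agent.LThreeMB
open Cfsg.Agent.H8.Mon (NoInv)
open Subgroup (centralizer zpowers mem_centralizer_singleton_iff)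

/-- the classes `5B`, `7B` (fixed point free on `2 ^ 24`) -/
def FB (q : ℕ) (w : MG) : Prop :=
  ∃ (c : MG) (x : centralizer ({zz} : Set MG)), orderOf x = q ∧ fr (pi x) = 1 ∧ w = c * (x : MG) * c⁻¹

/-- no element of `FB q` commutes with `g` -/
def NoFB (q : ℕ) (g : MG) : Prop := ∀ w : MG, FB q w → w * g ≠ g * w

/-- `n ≤ K` -/
def Small (g : MG) : Prop := Nat.card ↥(centralizer ({g} : Set MG)) ≤ 1240000000

/-- `[P3]` (helper740) -/
def P3 : Prop := ∀ y : MG, y ≠ 1 → (∃ k, y ^ 3 ^ k = 1) → NoInv y → Small y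

/-- `[B7]` (helper745) -/
def B7 : Prop := ∀ g x : MG, orderOf x = 7 → x ∈ zpowers g → NoInv g → NoFB 5 g → NoFB 7 g → Small g

/-- `[B5]` (helper134) -/
def B5 : Prop := ∀ g x : MG, orderOf x = 5 → x ∈ zpowers g → NoInv g → NoFB 5 g → NoFB 7 g →
  (∀ r : ℕ, r.Prime → r ∣ orderOf g → r = 3 ∨ r = 5) → Small g

/-- `[B13]` (helper461) -/
def B13 : Prop := ∀ g x : MG, orderOf x = 13 → x ∈ zpowers g → NoInv g → Small g

/-- `[BX]` (helper849) -/
def BX : Prop := ∀ (r : ℕ) (x : MG), r.Prime → r ≠ 13 → 11 ≤ r → orderOf x = r → Small x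

end Cfsg.Agent.H849.TM
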