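import Cfsg.Agent.H849.TM.Defs

/-!
# S4173 / S2464, row M: the centralizers of odd order, assembly (helper849)

* `bx_of` : `[BX]` from the orders of the centralizers of the elements of prime order `≥ 11`;
* `m4_of` : the bound `|C(g)| ≤ 1240000000` from the five boxes.
-/

set_option autoImplicit false

namespace Cfsg.Agent.H849.TM

open Cfsg Cfsg.Agent.BpSpor.MBigModel
open Cfsg.Agent.MonsterX.MainPack Cfsg.Agent.MonsterU.Lam2 Cfsg.Agent.LThreeMB
open Cfsg.Agent.H8.Mon (NoInv)
open Subgroup (centralizer zpowers mem_centralizer_singleton_iff)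

/-- the orders of the centralizers, primes `≥ 17` and 11 -/
structure Big : Prop where
  c11 : ∀ x : MG, orderOf x = 11 → Nat.card ↥(centralizer ({x} : Set MG)) = 11 * 95040
  c17 : ∀ x : MG, orderOf x = 17 → Nat.card ↥(centralizer ({x} : Set MG)) = 17 * 168
  c19 : ∀ x : MG, orderOf x = 19 → Nat.card ↥(centralizer ({x} : Set MG)) = 19 * 60
  c23 : ∀ x : MG, orderOf x = 23 → Nat.card ↥(centralizer ({x} : Set MG)) = 23 * 24
  c29 : ∀ x : MG, orderOf x = 29 → Nat.card ↥(centralizer ({x} : Set MG)) = 29 * 3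
  c31 : ∀ x : MG, orderOf x = 31 → Nat.card ↥(centralizer ({x} : Set MG)) = 31 * 6
  c41 : ∀ x : MG, orderOf x = 41 → Nat.card ↥(centralizer ({x} : Set MG)) = 41
  c47 : ∀ x : MG, orderOf x = 47 → Nat.card ↥(centralizer ({x} : Set MG)) = 47 * 2
  c59 : ∀ x : MG, orderOf x = 59 → Nat.card ↥(centralizer ({x} : Set MG)) = 59
  c71 : ∀ x : MG, orderOf x = 71 → Nat.card ↥(centralizer ({x} : Set MG)) = 71

/-- `[BX]` -/
theorem bx_of (B : Big) : BX := by
  intro r x hr h13 h11 hx
  have hd : r ∣ Nat.card MG := by rw [← hx]; exact orderOf_dvd_natCard _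
  rw [Cfsg.Agent.H8.Mon.card_M'] at hd
  have hpow : ∀ {p k : ℕ}, p.Prime → r ∣ p ^ k → r = p := fun hp h =>
    (Nat.prime_dvd_prime_iff_eq hr hp).1 (hr.dvd_of_dvd_pow h)
  have key : r = 2 ∨ r = 17 ∨ r = 19 ∨ r = 23 ∨ r = 29 ∨ r = 31 ∨ r = 41 ∨ r = 47 ∨ r = 59 ∨ r = 71 ∨ r = 3 ∨ r = 11 ∨
      r = 13 ∨ r = 5 ∨ r = 7 := by
    rcases (Nat.Prime.dvd_mul hr).1 hd with h | hd
    · exact Or.inl (hpow (by norm_num) h)
    rcases (Nat.Prime.dvd_mul hr).1 hd with h | hd
    · exact Or.inr (Or.inl (hpow (by norm_num) h))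
    rcases (Nat.Prime.dvd_mul hr).1 hd with h | hd
    · exact Or.inr (Or.inr (Or.inl (hpow (by norm_num) h)))
    rcases (Nat.Prime.dvd_mul hr).1 hd with h | hd
    · have := hpow (by norm_num) h; simp [this]
    rcases (Nat.Prime.dvd_mul hr).1 hd with h | hd
    · have := hpow (by norm_num) h; simp [this]
    rcases (Nat.Prime.dvd_mul hr).1 hd with h | hd
    · have := hpow (by norm_num) h; simp [this]
    rcases (Nat.Prime.dvd_mul hr).1 hd with h | hd
    · have := hpow (by norm_num) h; simp [this]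
    rcases (Nat.Prime.dvd_mul hr).1 hd with h | hd
    · have := hpow (by norm_num) h; simp [this]
    rcases (Nat.Prime.dvd_mul hr).1 hd with h | hd
    · have := hpow (by norm_num) h; simp [this]
    rcases (Nat.Prime.dvd_mul hr).1 hd with h | hd
    · have := hpow (by norm_num) h; simp [this]
    rcases (Nat.Prime.dvd_mul hr).1 hd with h | hd
    · have := hpow (by norm_num) h; simp [this]
    rcases (Nat.Prime.dvd_mul hr).1 hd with h | hd
    · have := hpow (by norm_num) h; simp [this]
    rcases (Nat.Prime.dvd_mul hr).1 hd with h | hd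
    · have := hpow (by norm_num) h; simp [this]
    rcases (Nat.Prime.dvd_mul hr).1 hd with h | h
    · have := hpow (by norm_num) h; simp [this]
    · have := hpow (by norm_num) h; simp [this]
  have fin : ∀ {n : ℕ}, Nat.card ↥(centralizer ({x} : Set MG)) = n → n ≤ 1240000000 → Small x := fun h h' => by
    unfold Small; rw [h]; exact h'
  rcases key with h | h | h | h | h | h | h | h | h | h | h | h | h | h | h
  · omega
  · exact fin (B.c17 x (hx.trans h)) (by norm_num)
  · exact fin (B.c19 x (hx.trans h)) (by norm_num)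
  · exact fin (B.c23 x (hx.trans h)) (by norm_num)
  · exact fin (B.c29 x (hx.trans h)) (by norm_num)
  · exact fin (B.c31 x (hx.trans h)) (by norm_num)
  · exact fin (B.c41 x (hx.trans h)) (by norm_num)
  · exact fin (B.c47 x (hx.trans h)) (by norm_num)
  · exact fin (B.c59 x (hx.trans h)) (by norm_num)
  · exact fin (B.c71 x (hx.trans h)) (by norm_num)
  · omega
  · exact fin (B.c11 x (hx.trans h)) (by norm_num)
  · exact absurd h h13
  · omega
  · omega

/-- an element of `⟨g⟩` of prime order -/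
theorem exists_order {g : MG} {r : ℕ} (hr : r.Prime) (hd : r ∣ orderOf g) : ∃ x ∈ zpowers g, orderOf x = r := by
  have hfin : IsOfFinOrder g := by
    have := finite
    exact isOfFinOrder_of_finite g
  refine ⟨g ^ (orderOf g / r), Subgroup.npow_mem_zpowers g _, ?_⟩
  have h0 : orderOf g ≠ 0 := hfin.orderOf_pos.ne'
  rw [orderOf_pow_of_dvd (Nat.div_pos (Nat.le_of_dvd (Nat.pos_of_ne_zero h0) hd) hr.pos).ne' (Nat.div_dvd_of_dvd hd)]
  exact Nat.div_div_self hd h0

theorem small_of_mem {g x : MG} (hx : x ∈ zpowers g) (h : Small x) : Small g := by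
  have := finite
  refine le_trans (Nat.card_le_card_of_injective (Subgroup.inclusion (?_ : centralizer ({g} : Set MG) ≤
    centralizer ({x} : Set MG))) (Subgroup.inclusion_injective _)) h
  intro c hc
  obtain ⟨k, rfl⟩ := Subgroup.mem_zpowers_iff.1 hx
  have h1 : Commute c g := mem_centralizer_singleton_iff.1 hc
  exact mem_centralizer_singleton_iff.2 (h1.zpow_right k).eq

/-- **The centralizers of odd order.** -/
theorem m4_of (h3 : P3) (h5 : B5) (h7 : B7) (h13 : B13) (hX : BX) {g : MG} (hg : g ≠ 1) (hno : NoInv g)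
    (n5 : NoFB 5 g) (n7 : NoFB 7 g) : Small g := by
  have h2 : ¬ 2 ∣ orderOf g := fun h => by
    obtain ⟨v, hv, hv2⟩ := exists_order Nat.prime_two h
    obtain ⟨k, rfl⟩ := Subgroup.mem_zpowers_iff.1 hv
    exact hno ⟨g ^ k, hv2, ((Commute.refl g).zpow_left k).eq⟩
  by_cases hbig : ∃ r : ℕ, r.Prime ∧ r ∣ orderOf g ∧ 11 ≤ r
  · obtain ⟨r, hr, hd, h11⟩ := hbig
    obtain ⟨x, hx, hxo⟩ := exists_order hr hd
    by_cases h : r = 13
    · exact h13 g x (hxo.trans h) hx hno
    · exact small_of_mem hx (hX r x hr h h11 hxo)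
  by_cases hd7 : 7 ∣ orderOf g
  · obtain ⟨x, hx, hxo⟩ := exists_order (by norm_num) hd7
    exact h7 g x hxo hx hno n5 n7
  have hpr : ∀ r : ℕ, r.Prime → r ∣ orderOf g → r = 3 ∨ r = 5 := by
    intro r hr hd
    have hlt : r < 11 := by
      by_contra h
      exact hbig ⟨r, hr, hd, by omega⟩
    have h2' := hr.two_le
    interval_cases r
    · exact absurd hd h2
    · exact Or.inl rfl
    · exact absurd hr (by norm_num)
    · exact Or.inr rfl
    · exact absurd hr (by norm_num)
    · exact absurd hd hd7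
    · exact absurd hr (by norm_num)
    · exact absurd hr (by norm_num)
    · exact absurd hr (by norm_num)
  by_cases hd5 : 5 ∣ orderOf g
  · obtain ⟨x, hx, hxo⟩ := exists_order (by norm_num) hd5
    exact h5 g x hxo hx hno n5 n7 hpr
  · refine h3 g hg ?_ hno
    have h0 : orderOf g ≠ 0 := by
      have := finite
      exact (isOfFinOrder_of_finite g).orderOf_pos.ne'
    have h : ∃ k, orderOf g = 3 ^ k := by
      refine ⟨(orderOf g).primeFactorsList.length, Nat.eq_prime_pow_of_unique_prime_dvd h0 ?_⟩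
      intro d hd hdd
      rcases hpr d hd hdd with h | h
      · exact h
      · exact absurd (h ▸ hdd) hd5
    obtain ⟨k, hk⟩ := h
    exact ⟨k, by rw [← hk]; exact pow_orderOf_eq_one g⟩

end Cfsg.Agent.H849.TM
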